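import Groth.Agent.Flat.TorPeriodic
import Groth.Agent.Flat.TorDimBaseChange
import Mathlib.RingTheory.Smooth.Local
import Mathlib.RingTheory.Smooth.Locus
import Mathlib.RingTheory.Etale.Kaehler
import Mathlib.RingTheory.Kaehler.Polynomial
import Mathlib.RingTheory.Ideal.Quotient.Noetherian
import Mathlib.RingTheory.LocalRing.MaximalIdeal.Basic
import Mathlib.RingTheory.Polynomial.Basic

/-!
Finite tor dimension of a residue field forces the relations into general position; smoothness
at rational points.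
-/

set_option autoImplicit false

noncomputable section

namespace Groth.Agent.EtAlg.DiagSmooth

universe u

open TensorProduct CategoryTheory

set_option maxHeartbeats 1000000 in
/-- If `P ⧸ J` has finite tor dimension over `R` (with `R → P` flat and `m_P` extended from `R`),
then the kernel of a surjection `A → P` meets `m_A · J'` only in `m_A · ker`. -/
theorem mem_mul_ker {A P R : Type u} [CommRing A] [IsNoetherianRing A] [IsLocalRing A] [CommRing P]
    [CommRing R] [Algebra R P] [Module.Flat R P] (φ : A →+* P) (hφ : Function.Surjective φ)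
    (J : Ideal P) (hJ : J ≠ ⊤) (I : Ideal R)
    (hI : I.map (algebraMap R P) = (IsLocalRing.maximalIdeal A).map φ)
    (hfd : DRing.HasFiniteTorDim R (P ⧸ J)) (x : A) (hx : x ∈ RingHom.ker φ)
    (hxm : x ∈ IsLocalRing.maximalIdeal A * J.comap φ) :
    x ∈ IsLocalRing.maximalIdeal A * RingHom.ker φ := by
  classical
  by_contra hxI
  set 𝔪 := IsLocalRing.maximalIdeal A
  set N := RingHom.ker φ
  have hJ' : J.comap φ ≠ ⊤ := by simpa [Ideal.comap_eq_top_iff] using hJ
  have hNm : N ≤ 𝔪 := (Ideal.comap_mono bot_le).trans (IsLocalRing.le_maximalIdeal hJ')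
  obtain ⟨(K : Ideal A), ⟨hK1, hK2, hK3⟩, hKmax⟩ :=
    set_has_maximal_iff_noetherian.mpr ‹IsNoetherianRing A›
      {K : Ideal A | 𝔪 * N ≤ K ∧ K ≤ N ∧ x ∉ K} ⟨𝔪 * N, le_rfl, Ideal.mul_le_right, hxI⟩
  have hKx : N ≤ K ⊔ Ideal.span {x} := by
    intro y hy
    by_contra hyn
    have hyK : y ∉ K := fun h => hyn (Submodule.mem_sup_left h)
    have hxin : x ∈ K ⊔ Ideal.span {y} := by
      by_contra h
      exact hKmax (K ⊔ Ideal.span {y})
        ⟨hK1.trans le_sup_left, sup_le hK2 (by rwa [Ideal.span_le, Set.singleton_subset_iff]), h⟩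
        (lt_of_le_of_ne le_sup_left fun he => hyK (he ▸ Submodule.mem_sup_right
          (Ideal.mem_span_singleton_self y)))
    obtain ⟨k, hk, z, hz, hkz⟩ := Submodule.mem_sup.mp hxin
    obtain ⟨a, rfl⟩ := Ideal.mem_span_singleton'.mp hz
    by_cases ha : IsUnit a
    · obtain ⟨u, rfl⟩ := ha
      refine hyn ?_
      have : y = ↑u⁻¹ * (x - k) := by
        rw [← hkz, add_sub_cancel_left, ← mul_assoc, Units.inv_mul, one_mul]
      rw [this]
      exact Ideal.mul_mem_left _ _ (sub_mem (Submodule.mem_sup_right (Ideal.mem_span_singleton_self x))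
        (Submodule.mem_sup_left hk))
    · refine hK3 ?_
      rw [← hkz]
      exact add_mem hk (hK1 (Ideal.mul_mem_mul (show a ∈ 𝔪 from ha) hy))
  letI : Algebra (A ⧸ K) P :=
    (Ideal.Quotient.lift K φ fun a ha => RingHom.mem_ker.mp (hK2 ha)).toAlgebra
  obtain ⟨m, js, hjs⟩ := Submodule.fg_iff_exists_fin_generating_family.mp
    (IsNoetherian.noetherian (J.comap φ))
  have hxm' : x ∈ 𝔪 • Submodule.span A (Set.range js) := by rwa [hjs]
  obtain ⟨r, hr, hsum⟩ := (Submodule.mem_ideal_smul_span_iff_exists_sum _ _ _).mp hxm'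
  obtain ⟨ι, _, _, e, M, hM, hrow, hcol⟩ := Groth.Agent.Flat.TorPeriodic.exists_factorization
    (fun i => Ideal.Quotient.mk K (js i)) (fun i => Ideal.Quotient.mk K (r i))
  have hprod : ∀ a, a ∈ 𝔪 → ∀ b ∈ N, Ideal.Quotient.mk K (a * b) = 0 := fun a ha b hb =>
    Ideal.Quotient.eq_zero_iff_mem.mpr (hK1 (Ideal.mul_mem_mul ha hb))
  have hxmem : x ∈ 𝔪 := hNm hx
  obtain ⟨k, hk⟩ := Groth.Agent.Flat.TorPeriodic.exists_pow_mem (R := R) (P' := A ⧸ K) (P := P)
    (fun p => by
      obtain ⟨a, rfl⟩ := hφ p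
      exact ⟨Ideal.Quotient.mk K a, rfl⟩)
    (Ideal.Quotient.mk K x)
    (by
      refine le_antisymm (fun y hy => ?_) ((Ideal.span_singleton_le_iff_mem _).mpr hx)
      obtain ⟨y, rfl⟩ := Ideal.Quotient.mk_surjective y
      have hyI : y ∈ N := hy
      obtain ⟨k, hk, z, hz, rfl⟩ := Submodule.mem_sup.mp (hKx hyI)
      rw [map_add, Ideal.Quotient.eq_zero_iff_mem.mpr hk, zero_add]
      obtain ⟨a, rfl⟩ := Ideal.mem_span_singleton'.mp hz
      exact Ideal.mem_span_singleton'.mpr ⟨Ideal.Quotient.mk K a, (map_mul _ a x).symm⟩)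
    (by rw [← map_mul]; exact hprod x hxmem x hx)
    (𝔪.map (Ideal.Quotient.mk K))
    (fun a => by
      obtain ⟨a, rfl⟩ := Ideal.Quotient.mk_surjective a
      refine ⟨fun ha => ?_, fun ha => ?_⟩
      · obtain ⟨b, hb, hba⟩ := (Ideal.mem_map_iff_of_surjective _ Ideal.Quotient.mk_surjective).mp ha
        rw [← hba, ← map_mul, mul_comm]
        exact hprod b hb x hx
      · refine Ideal.mem_map_of_mem _ (show a ∈ 𝔪 from fun hu => hK3 ?_)
        obtain ⟨u, rfl⟩ := hu
        have h := Ideal.Quotient.eq_zero_iff_mem.mp ((map_mul (Ideal.Quotient.mk K) x u).trans ha)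
        simpa using Ideal.mul_mem_right (↑u⁻¹ : A) K h)
    I
    (by rw [hI, Ideal.map_map]; rfl)
    e M 1
    (by
      rw [hM, mul_one]; congr 1
      show _ = Ideal.Quotient.mk K x
      rw [← hsum, Finsupp.sum_fintype _ _ fun i => zero_smul A (js i)]
      simp only [map_sum, smul_eq_mul, map_mul])
    J
    (fun i => by
      refine (?_ : Ideal.span _ ≤ J.comap (algebraMap (A ⧸ K) P)) (hrow i)
      rw [Ideal.span_le]
      rintro _ ⟨j, rfl⟩
      exact (hjs.le (Submodule.subset_span ⟨j, rfl⟩) : js j ∈ J.comap φ))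
    (fun i => Ideal.span_le.mpr (Set.range_subset_iff.mpr fun j => Ideal.mem_map_of_mem _ (hr j))
      (hcol i))
    hfd
  rw [map_one, one_pow, Ideal.map_map] at hk
  have hle : J ⊔ 𝔪.map ((algebraMap (A ⧸ K) P).comp (Ideal.Quotient.mk K)) ≤ 𝔪.map φ := by
    refine sup_le ?_ le_rfl
    rw [← Ideal.map_comap_of_surjective φ hφ J]
    exact Ideal.map_mono (IsLocalRing.le_maximalIdeal hJ')
  obtain ⟨b, hb, hb1⟩ := (Ideal.mem_map_iff_of_surjective φ hφ).mp (hle hk)
  have h1 : b - 1 ∈ 𝔪 := hNm (by rw [RingHom.mem_ker, map_sub, hb1, map_one, sub_self])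
  exact (IsLocalRing.maximalIdeal.isMaximal A).ne_top ((Ideal.eq_top_iff_one _).mpr
    (show (1 : A) ∈ 𝔪 by simpa using sub_mem hb h1))

set_option maxHeartbeats 1000000 in
/-- A rational point with residue field of finite tor dimension is a smooth point. -/
theorem isSmoothAt_of_point {K C : Type u} [Field K] [CommRing C] [Algebra K C]
    [Algebra.FiniteType K C] (g : C →ₐ[K] K) [(RingHom.ker g).IsPrime]
    (hfd : DRing.HasFiniteTorDim C (C ⧸ RingHom.ker g)) :
    Algebra.IsSmoothAt K (RingHom.ker g) := by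
  classical
  set q := RingHom.ker g
  have hgs : Function.Surjective g := fun a => ⟨algebraMap K C a, g.commutes a⟩
  have hqm : q.IsMaximal := RingHom.ker_isMaximal_of_surjective _ hgs
  obtain ⟨n, f, hf⟩ := Algebra.FiniteType.iff_quotient_mvPolynomial''.mp
    (inferInstance : Algebra.FiniteType K C)
  let P₀ := MvPolynomial (Fin n) K
  let S := Localization.AtPrime q
  let M : Ideal P₀ := RingHom.ker (g.comp f)
  have hMq : M = q.comap f.toRingHom := rfl
  have : M.IsMaximal := RingHom.ker_isMaximal_of_surjective _ (hgs.comp hf)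
  let P := Localization.AtPrime M
  have : IsNoetherianRing P := IsLocalization.isNoetherianRing M.primeCompl _ inferInstance
  letI : Algebra P S := (Localization.localRingHom M q f.toRingHom hMq).toAlgebra
  have halg : ∀ c : P₀, algebraMap P S (algebraMap P₀ P c) = algebraMap C S (f c) := fun c =>
    Localization.localRingHom_to_map M q f.toRingHom hMq c
  have : IsScalarTower K P S := by
    refine IsScalarTower.of_algebraMap_eq fun a => ?_
    rw [IsScalarTower.algebraMap_apply K P₀ P, halg, AlgHom.commutes,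
      ← IsScalarTower.algebraMap_apply K C S]
  have hsurj : Function.Surjective (algebraMap P S) := by
    intro z
    obtain ⟨c, s, rfl⟩ := IsLocalization.exists_mk'_eq q.primeCompl z
    obtain ⟨c, rfl⟩ := hf c
    obtain ⟨t, ht⟩ := hf (s : C)
    have htM : t ∈ M.primeCompl := fun h => s.2 (ht ▸ h)
    refine ⟨IsLocalization.mk' P c ⟨t, htM⟩, ?_⟩
    rw [IsLocalization.eq_mk'_iff_mul_eq]
    rw [← ht, ← halg, ← map_mul, IsLocalization.mk'_spec, halg]
  -- a derivation detecting the cotangent space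
  let σ : P →ₐ[K] K := IsLocalization.liftAlgHom (M := M.primeCompl) (f := g.comp f)
    fun y => isUnit_iff_ne_zero.mpr fun h => y.2 h
  have hσker : RingHom.ker σ = IsLocalRing.maximalIdeal P :=
    IsLocalRing.eq_maximalIdeal
      (RingHom.ker_isMaximal_of_surjective _ fun a => ⟨algebraMap K P a, σ.commutes a⟩)
  set m := IsLocalRing.maximalIdeal P
  have hmem : ∀ a : P, a - algebraMap K P (σ a) ∈ m := fun a => by
    rw [← hσker, RingHom.mem_ker, map_sub, AlgHom.commutes]
    exact sub_self _
  let δ₀ : P →ₗ[K] m :=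
    { toFun := fun a => ⟨a - algebraMap K P (σ a), hmem a⟩
      map_add' := fun a b => Subtype.ext (by simp only [map_add, AddMemClass.coe_add]; ring)
      map_smul' := fun c a => Subtype.ext (by
        simp only [Submodule.coe_smul_of_tower, RingHom.id_apply]
        simp only [Algebra.smul_def, map_mul, AlgHom.commutes, Algebra.algebraMap_self, RingHom.id_apply]
        ring) }
  let δ : Derivation K P m.Cotangent := Derivation.mk' ((m.toCotangent.restrictScalars K).comp δ₀)
    fun a b => by
      simp only [LinearMap.coe_comp, LinearMap.coe_restrictScalars, Function.comp_apply,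
        ← map_smul, ← map_add, Ideal.toCotangent_eq]
      show (a * b - algebraMap K P (σ (a * b))) -
        (a * (b - algebraMap K P (σ b)) + b * (a - algebraMap K P (σ a))) ∈ m ^ 2
      rw [show (a * b - algebraMap K P (σ (a * b))) -
          (a * (b - algebraMap K P (σ b)) + b * (a - algebraMap K P (σ a))) =
          -((a - algebraMap K P (σ a)) * (b - algebraMap K P (σ b))) by
        rw [map_mul, map_mul]; ring, pow_two]
      exact neg_mem (Ideal.mul_mem_mul (hmem a) (hmem b))
  have hcot : ∀ a ∈ m, KaehlerDifferential.D K P a ∈ m • (⊤ : Submodule P Ω[P⁄K]) → a ∈ m ^ 2 := by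
    intro a ha hD
    have h1 : δ a = 0 := by
      rw [← δ.liftKaehlerDifferential_comp_D a]
      refine Submodule.smul_induction_on hD ?_ ?_
      · intro c hc w _
        rw [map_smul]
        obtain ⟨v, hv⟩ := m.toCotangent_surjective (δ.liftKaehlerDifferential w)
        rw [← hv, ← map_smul, Ideal.toCotangent_eq_zero, pow_two]
        exact Ideal.mul_mem_mul hc v.2
      · intro x y hx hy; rw [map_add, hx, hy, add_zero]
    have h2 : σ a = 0 := by rw [← RingHom.mem_ker, hσker]; exact ha
    have h3 := (Ideal.toCotangent_eq_zero m (δ₀ a)).mp h1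
    simpa [δ₀, h2] using h3
  -- the Jacobian criterion
  have : IsNoetherianRing S := isNoetherianRing_of_surjective P S _ hsurj
  have : Algebra.FormallyEtale P₀ P := Algebra.FormallyEtale.of_isLocalization M.primeCompl
  have : Module.Free P Ω[P⁄K] := Module.Free.of_basis
    (((KaehlerDifferential.mvPolynomialBasis K (Fin n)).baseChange P).map
      (KaehlerDifferential.tensorKaehlerEquivOfFormallyEtale K P₀ P))
  have : Module.Finite P Ω[P⁄K] := Module.Finite.of_basis
    (((KaehlerDifferential.mvPolynomialBasis K (Fin n)).baseChange P).map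
      (KaehlerDifferential.tensorKaehlerEquivOfFormallyEtale K P₀ P))
  have : Algebra.FormallySmooth K P := Algebra.FormallySmooth.comp K P₀ P
  show Algebra.FormallySmooth K S
  rw [Algebra.FormallySmooth.iff_injective_cotangentComplexBaseChange_residueField P hsurj
    (IsNoetherian.noetherian _)]
  let κ := IsLocalRing.ResidueField S
  have hκ : Function.Surjective (algebraMap P κ) := by
    rw [IsScalarTower.algebraMap_eq P S κ, RingHom.coe_comp]
    exact IsLocalRing.residue_surjective.comp hsurj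
  have hκker : RingHom.ker (algebraMap P κ) = m :=
    IsLocalRing.eq_maximalIdeal (RingHom.ker_isMaximal_of_surjective _ hκ)
  rw [injective_iff_map_eq_zero]
  intro t ht
  obtain ⟨x, rfl⟩ := TensorProduct.mk_surjective P (RingHom.ker (algebraMap P S)) κ hκ t
  rw [TensorProduct.mk_apply, KaehlerDifferential.cotangentComplexBaseChange_tmul, one_smul] at ht
  have hx1 : (x : P) ∈ m := by
    refine IsLocalRing.le_maximalIdeal (fun h => ?_) x.2
    exact one_ne_zero (α := S) (RingHom.mem_ker.mp (h ▸ Submodule.mem_top : (1 : P) ∈ RingHom.ker (algebraMap P S)) ▸ (map_one (algebraMap P S)).symm)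
  let eκ : (P ⧸ m) ≃ₗ[P] κ := (Ideal.quotientEquivAlgOfEq P hκker).symm.toLinearEquiv.trans
    (Ideal.quotientKerAlgEquivOfSurjective (f := Algebra.ofId P κ) hκ).toLinearEquiv
  have heκ : eκ 1 = 1 := by
    simp only [eκ, LinearEquiv.trans_apply, AlgEquiv.toLinearEquiv_apply, map_one]
    exact map_one (Algebra.ofId P κ)
  have hDx : KaehlerDifferential.D K P (x : P) ∈ m • (⊤ : Submodule P Ω[P⁄K]) := by
    have h0 : (1 : P ⧸ m) ⊗ₜ[P] KaehlerDifferential.D K P (x : P) = 0 := by
      apply (TensorProduct.congr eκ (LinearEquiv.refl P Ω[P⁄K])).injective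
      rw [map_zero, TensorProduct.congr_tmul, LinearEquiv.refl_apply, heκ]
      exact ht
    have := congrArg (TensorProduct.quotTensorEquivQuotSMul Ω[P⁄K] m) h0
    rw [map_zero, ← map_one (Ideal.Quotient.mk m), TensorProduct.quotTensorEquivQuotSMul_mk_tmul,
      one_smul] at this
    exact (Submodule.Quotient.mk_eq_zero _).mp this
  have hx2 := hcot _ hx1 hDx
  -- transfer of the tor dimension hypothesis
  have hJ : q.map (algebraMap C S) = IsLocalRing.maximalIdeal S :=
    Localization.AtPrime.map_eq_maximalIdeal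
  have hfd' : DRing.HasFiniteTorDim C (S ⧸ IsLocalRing.maximalIdeal S) := by
    obtain ⟨d, hd⟩ := hfd
    let e0 : (C ⧸ q) ≃ₗ[C] (S ⧸ IsLocalRing.maximalIdeal S) :=
      { (IsLocalization.AtPrime.equivQuotMaximalIdeal q S).toAddEquiv with
        map_smul' := fun c z => by
          obtain ⟨z, rfl⟩ := Ideal.Quotient.mk_surjective z
          show IsLocalization.AtPrime.equivQuotMaximalIdeal q S (Ideal.Quotient.mk q (c * z)) =
            c • IsLocalization.AtPrime.equivQuotMaximalIdeal q S (Ideal.Quotient.mk q z)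
          rw [map_mul, map_mul, Algebra.smul_def]
          rfl }
    refine ⟨d, fun N _ _ p hp => ?_⟩
    have := hd N p hp
    exact ((((CategoryTheory.Tor (ModuleCat.{u} C) p).mapIso e0.toModuleIso).app
      (ModuleCat.of C N)).toLinearEquiv.toEquiv.symm.subsingleton)
  have hmapm : m.map (algebraMap P S) = IsLocalRing.maximalIdeal S :=
    IsLocalRing.map_maximalIdeal_of_surjective _ hsurj
  have hcomap : (IsLocalRing.maximalIdeal S).comap (algebraMap P S) = m :=
    IsLocalRing.eq_maximalIdeal (Ideal.comap_isMaximal_of_surjective _ hsurj)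
  have hxker := mem_mul_ker (algebraMap P S) hsurj (IsLocalRing.maximalIdeal S)
    (IsLocalRing.maximalIdeal.isMaximal S).ne_top q (hJ.trans hmapm.symm) hfd' x x.2
    (by rw [hcomap, ← pow_two]; exact hx2)
  show (1 : κ) ⊗ₜ[P] x = 0
  have hxs : x ∈ m • (⊤ : Submodule P (RingHom.ker (algebraMap P S))) := by
    rw [← Submodule.comap_map_eq_of_injective (f := (RingHom.ker (algebraMap P S)).subtype)
      Subtype.val_injective (m • ⊤), Submodule.mem_comap, Submodule.map_smul'', Submodule.map_top,
      Submodule.range_subtype, smul_eq_mul]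
    exact hxker
  refine Submodule.smul_induction_on hxs ?_ ?_
  · intro c hc w _
    rw [← TensorProduct.smul_tmul, Algebra.smul_def, mul_one,
      RingHom.mem_ker.mp (hκker.ge hc), TensorProduct.zero_tmul]
  · intro y z hy hz; rw [TensorProduct.tmul_add, hy, hz, add_zero]

set_option maxHeartbeats 1000000 in
/-- Finite tor dimension of the diagonal gives finite tor dimension at every point. -/
theorem finiteTorDim_point {A B K : Type u} [CommRing A] [CommRing B] [Field K] [Algebra A B]
    [Algebra A K] [Module.Flat A B] [Algebra (B ⊗[A] B) B]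
    (hmul : ∀ x y : B, algebraMap (B ⊗[A] B) B (x ⊗ₜ[A] y) = x * y)
    (h : DRing.HasFiniteTorDim (B ⊗[A] B) B) (χ : B →ₐ[A] K) :
    DRing.HasFiniteTorDim (K ⊗[A] B) ((K ⊗[A] B) ⧸
      RingHom.ker (Algebra.TensorProduct.lift (Algebra.ofId K K) χ fun _ _ => .all _ _)) := by
  classical
  let G : K ⊗[A] B →ₐ[K] K :=
    Algebra.TensorProduct.lift (Algebra.ofId K K) χ fun _ _ => .all _ _
  change DRing.HasFiniteTorDim (K ⊗[A] B) ((K ⊗[A] B) ⧸ RingHom.ker G)
  have hG : ∀ (a : K) (b : B), G (a ⊗ₜ[A] b) = a * χ b := fun a b => by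
    simp [G]
  let R := B ⊗[A] B
  let R' := K ⊗[A] B
  letI : Algebra B K := χ.toRingHom.toAlgebra
  have : IsScalarTower A B K := IsScalarTower.of_algebraMap_eq fun a => (χ.commutes a).symm
  letI : Algebra R R' :=
    (Algebra.TensorProduct.map χ (AlgHom.id A B)).toRingHom.toAlgebra
  have halg : ∀ b c : B, algebraMap R R' (b ⊗ₜ c) = χ b ⊗ₜ[A] c := fun b c => rfl
  have hBR' : ∀ b : B, algebraMap B R' b = χ b ⊗ₜ[A] (1 : B) := fun b => rfl
  have : IsScalarTower B R R' := IsScalarTower.of_algebraMap_eq fun b => by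
    rw [hBR', Algebra.TensorProduct.algebraMap_apply, Algebra.algebraMap_self, RingHom.id_apply, halg]
  have : Algebra.IsPushout B K R R' := Algebra.IsPushout.tensorProduct_tensorProduct A B B K
    (RingHom.ext fun b => by
      show algebraMap R R' ((1 : B) ⊗ₜ b) = (1 : K) ⊗ₜ[A] b
      rw [halg, map_one])
  obtain ⟨S, Q, s, hS, -⟩ := Groth.Agent.Flat.TorDim.exists_syz (R := R) B
  obtain ⟨d, hd⟩ := h
  have hflatd : Module.Flat R (S d) := s.flat_of_tor fun M _ _ => by
    rw [hS]
    have := hd M (d + 1) (Nat.lt_succ_self d)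
    exact ModuleCat.isZero_of_subsingleton _
  letI instS : ∀ i, Module B (S i) := fun i => Module.compHom (S i) (algebraMap B R)
  letI instQ : ∀ i, Module B (Q i) := fun i => Module.compHom (Q i) (algebraMap B R)
  have : ∀ i, IsScalarTower B R (S i) := fun i => IsScalarTower.of_algebraMap_smul fun _ _ => rfl
  have : ∀ i, IsScalarTower B R (Q i) := fun i => IsScalarTower.of_algebraMap_smul fun _ _ => rfl
  let e : S 0 ≃ₗ[R] B := (CategoryTheory.eqToIso hS).toLinearEquiv
  have heB : ∀ (b : B) (x : S 0), e (b • x) = b * e x := by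
    intro b x
    show e (algebraMap B R b • x) = _
    rw [map_smul, Algebra.smul_def, Algebra.TensorProduct.algebraMap_apply, Algebra.algebraMap_self,
      RingHom.id_apply, hmul, mul_one]
  have h0 : Module.Flat B (S 0) :=
    Module.Flat.of_linearEquiv (M := B) ({ e with map_smul' := heB } : S 0 ≃ₗ[B] B)
  obtain ⟨s'⟩ := Groth.Agent.Flat.TorDimBaseChange.nonempty_baseChange (Q₀ := B) (R := R) (R' := R')
    K s h0
  let qq : Ideal R' := RingHom.ker G
  let h : B →ₗ[R] R' ⧸ qq :=
    { toFun := fun b => Ideal.Quotient.mk qq (χ b ⊗ₜ[A] (1 : B))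
      map_add' := fun a b => by rw [map_add, add_tmul, map_add]
      map_smul' := fun r b => by
        rw [RingHom.id_apply, ← IsScalarTower.algebraMap_smul R' r (Ideal.Quotient.mk qq _)]
        show _ = Ideal.Quotient.mk qq (algebraMap R R' r * (χ b ⊗ₜ[A] (1 : B)))
        rw [Ideal.Quotient.eq, RingHom.mem_ker, map_sub, map_mul, hG, hG, map_one, mul_one, mul_one,
          sub_eq_zero, Algebra.smul_def, map_mul]
        congr 1
        induction r using TensorProduct.induction_on with
        | zero => simp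
        | add x y hx hy => simp only [map_add, hx, hy]
        | tmul x y => rw [hmul, halg, hG, map_mul] }
  let ψ : R' ⊗[R] S 0 →ₗ[R'] R' ⧸ qq := (h.comp e.toLinearMap).liftBaseChange R'
  have hbij : Function.Bijective ψ := by
    have hform : ∀ t : R' ⊗[R] S 0, ∃ a : K, t = algebraMap K R' a ⊗ₜ[R] e.symm 1 := by
      intro t
      let eS := Algebra.IsPushout.cancelBaseChange B K R R' (S 0)
      obtain ⟨t, rfl⟩ := eS.symm.surjective t
      induction t using TensorProduct.induction_on with
      | zero => exact ⟨0, by simp⟩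
      | add x y hx hy =>
        obtain ⟨a, ha⟩ := hx
        obtain ⟨b, hb⟩ := hy
        exact ⟨a + b, by rw [map_add, ha, hb, map_add, add_tmul]⟩
      | tmul a x =>
        refine ⟨a * χ (e x), ?_⟩
        have hx : x = algebraMap B R (e x) • e.symm 1 := by
          apply e.injective
          rw [map_smul, LinearEquiv.apply_symm_apply, Algebra.smul_def,
            Algebra.TensorProduct.algebraMap_apply, Algebra.algebraMap_self, RingHom.id_apply, hmul,
            mul_one, mul_one]
        rw [Algebra.IsPushout.cancelBaseChange_symm_tmul]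
        conv_lhs => rw [hx]
        rw [← TensorProduct.smul_tmul, Algebra.smul_def, ← IsScalarTower.algebraMap_apply B R R',
          map_mul, mul_comm]
        rfl
    refine ⟨?_, ?_⟩
    · rw [injective_iff_map_eq_zero]
      intro t ht
      obtain ⟨a, rfl⟩ := hform t
      have h1 : G (algebraMap K R' a * (χ (1 : B) ⊗ₜ[A] (1 : B))) = 0 := by
        rw [← RingHom.mem_ker]
        refine Ideal.Quotient.eq_zero_iff_mem.mp ?_
        have : ψ (algebraMap K R' a ⊗ₜ[R] e.symm 1) =
            algebraMap K R' a • Ideal.Quotient.mk qq (χ (1 : B) ⊗ₜ[A] (1 : B)) := by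
          simp only [ψ, LinearMap.liftBaseChange_tmul, LinearMap.comp_apply, LinearEquiv.coe_coe,
            LinearEquiv.apply_symm_apply]
          rfl
        rw [← ht, this]
        rfl
      rw [map_mul, hG, AlgHom.commutes] at h1
      rw [show a = 0 by simpa using h1, map_zero, zero_tmul]
    · intro z
      obtain ⟨z, rfl⟩ := Ideal.Quotient.mk_surjective z
      refine ⟨algebraMap K R' (G z) ⊗ₜ[R] e.symm 1, ?_⟩
      simp only [ψ, LinearMap.liftBaseChange_tmul, LinearMap.comp_apply, LinearEquiv.coe_coe,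
        LinearEquiv.apply_symm_apply]
      show Ideal.Quotient.mk qq (algebraMap K R' (G z) * (χ (1 : B) ⊗ₜ[A] (1 : B))) = _
      rw [Ideal.Quotient.eq, RingHom.mem_ker, map_sub, map_mul, hG, AlgHom.commutes]
      simp
  have : Module.Flat R' (R' ⊗[R] S d) := inferInstance
  exact ⟨d, Groth.Agent.Flat.TorDimBaseChange.hasTorDimLE s' this (LinearEquiv.ofBijective ψ hbij)⟩

/-- Finite tor dimension descends along a flat map to the base. -/
theorem finiteTorDim_restrict {R R' M : Type u} [CommRing R] [CommRing R'] [Algebra R R']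
    [Module.Flat R R'] [AddCommGroup M] [Module R' M] [Module R M] [IsScalarTower R R' M]
    (h : DRing.HasFiniteTorDim R' M) : DRing.HasFiniteTorDim R M := by
  obtain ⟨S, Q, s, hS, -⟩ := Groth.Agent.Flat.TorDim.exists_syz (R := R') M
  obtain ⟨d, hd⟩ := h
  have hflatd : Module.Flat R' (S d) := s.flat_of_tor fun N _ _ => by
    rw [hS]
    have := hd N (d + 1) (Nat.lt_succ_self d)
    exact ModuleCat.isZero_of_subsingleton _
  letI instS : ∀ i, Module R (S i) := fun i => Module.compHom (S i) (algebraMap R R')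
  letI instQ : ∀ i, Module R (Q i) := fun i => Module.compHom (Q i) (algebraMap R R')
  have : ∀ i, IsScalarTower R R' (S i) := fun i => IsScalarTower.of_algebraMap_smul fun _ _ => rfl
  have : ∀ i, IsScalarTower R R' (Q i) := fun i => IsScalarTower.of_algebraMap_smul fun _ _ => rfl
  let t : Groth.Agent.Flat.TorDim.Syz R (fun i => (S i : Type u)) (fun i => (Q i : Type u)) :=
    { flat := fun i => by
        have := s.flat i
        exact Module.Flat.trans R R' (Q i)
      ι := fun i => (s.ι i).restrictScalars R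
      π := fun i => (s.π i).restrictScalars R
      inj := s.inj
      exact := s.exact
      surj := s.surj }
  exact ⟨d, Groth.Agent.Flat.TorDimBaseChange.hasTorDimLE t (Module.Flat.trans R R' (S d))
    (((CategoryTheory.eqToIso hS).toLinearEquiv).restrictScalars R)⟩

set_option maxHeartbeats 1000000 in
/-- Finite tor dimension at the points of an algebra with a flat map to one with perfect diagonal. -/
theorem finiteTorDim_point_restrict {A C₀ B K : Type u} [CommRing A] [CommRing C₀] [CommRing B]
    [Field K] [Algebra A C₀] [Algebra A B] [Algebra C₀ B] [IsScalarTower A C₀ B] [Module.Flat C₀ B]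
    [Algebra A K] [Module.Flat A B] [Algebra (B ⊗[A] B) B]
    (hmul : ∀ x y : B, algebraMap (B ⊗[A] B) B (x ⊗ₜ[A] y) = x * y)
    (h : DRing.HasFiniteTorDim (B ⊗[A] B) B) (χ : B →ₐ[A] K) :
    DRing.HasFiniteTorDim (K ⊗[A] C₀) ((K ⊗[A] C₀) ⧸ RingHom.ker (Algebra.TensorProduct.lift
      (Algebra.ofId K K) (χ.comp (IsScalarTower.toAlgHom A C₀ B)) fun _ _ => .all _ _)) := by
  classical
  let χ₀ : C₀ →ₐ[A] K := χ.comp (IsScalarTower.toAlgHom A C₀ B)
  let G : K ⊗[A] B →ₐ[K] K :=
    Algebra.TensorProduct.lift (Algebra.ofId K K) χ fun _ _ => .all _ _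
  let G₀ : K ⊗[A] C₀ →ₐ[K] K :=
    Algebra.TensorProduct.lift (Algebra.ofId K K) χ₀ fun _ _ => .all _ _
  change DRing.HasFiniteTorDim (K ⊗[A] C₀) ((K ⊗[A] C₀) ⧸ RingHom.ker G₀)
  have hfd := finiteTorDim_point hmul h χ
  let j : K ⊗[A] C₀ →ₐ[K] K ⊗[A] B :=
    Algebra.TensorProduct.map (AlgHom.id K K) (IsScalarTower.toAlgHom A C₀ B)
  letI : Algebra (K ⊗[A] C₀) (K ⊗[A] B) := j.toRingHom.toAlgebra
  have hGj : ∀ z, G (j z) = G₀ z := by
    intro z
    induction z using TensorProduct.induction_on with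
    | zero => simp
    | tmul a c => simp [G, G₀, j, χ₀]
    | add x y hx hy => simp only [map_add, hx, hy]
  letI : Algebra C₀ (K ⊗[A] C₀) := Algebra.TensorProduct.rightAlgebra
  letI : Algebra B (K ⊗[A] B) := Algebra.TensorProduct.rightAlgebra
  letI : Algebra C₀ (K ⊗[A] B) :=
    ((algebraMap B (K ⊗[A] B)).comp (algebraMap C₀ B)).toAlgebra
  have : IsScalarTower C₀ B (K ⊗[A] B) := IsScalarTower.of_algebraMap_eq fun _ => rfl
  have : IsScalarTower C₀ (K ⊗[A] C₀) (K ⊗[A] B) := IsScalarTower.of_algebraMap_eq fun c => by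
    show (1 : K) ⊗ₜ[A] algebraMap C₀ B c = j ((1 : K) ⊗ₜ[A] c)
    simp [j]
  have : IsScalarTower A C₀ (K ⊗[A] B) := IsScalarTower.of_algebraMap_eq fun a => by
    show _ = (1 : K) ⊗ₜ[A] algebraMap C₀ B (algebraMap A C₀ a)
    rw [← IsScalarTower.algebraMap_apply, Algebra.TensorProduct.algebraMap_apply,
      Algebra.algebraMap_eq_smul_one, Algebra.algebraMap_eq_smul_one, smul_tmul]
  have : IsScalarTower A (K ⊗[A] C₀) (K ⊗[A] B) := IsScalarTower.of_algebraMap_eq fun a => by
    exact ((j.restrictScalars A).commutes a).symm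
  have : IsScalarTower K (K ⊗[A] C₀) (K ⊗[A] B) := IsScalarTower.of_algebraMap_eq fun a => by
    exact (j.commutes a).symm
  have hpush : Algebra.IsPushout C₀ B (K ⊗[A] C₀) (K ⊗[A] B) :=
    (Algebra.IsPushout.comp_iff A C₀ K (K ⊗[A] C₀) (T := B) (T' := K ⊗[A] B)).mp inferInstance
  have : Module.Flat (K ⊗[A] C₀) (K ⊗[A] B) :=
    Module.Flat.isBaseChange C₀ (K ⊗[A] C₀) B (K ⊗[A] B) hpush.symm.out
  obtain ⟨d, hd⟩ := finiteTorDim_restrict (R := K ⊗[A] C₀) hfd
  have hle : RingHom.ker G₀ ≤ (RingHom.ker G).comap (algebraMap (K ⊗[A] C₀) (K ⊗[A] B)) := by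
    intro z hz
    show G (j z) = 0
    rw [hGj]; exact hz
  let f : ((K ⊗[A] C₀) ⧸ RingHom.ker G₀) →ₗ[K ⊗[A] C₀] ((K ⊗[A] B) ⧸ RingHom.ker G) :=
    Submodule.liftQ _ ((Submodule.mkQ (RingHom.ker G)).restrictScalars (K ⊗[A] C₀) ∘ₗ
      Algebra.linearMap (K ⊗[A] C₀) (K ⊗[A] B)) (fun z hz => by
        exact (Submodule.Quotient.mk_eq_zero _).mpr (hle hz))
  have hf : Function.Bijective f := by
    constructor
    · rw [injective_iff_map_eq_zero]
      intro z hz
      obtain ⟨z, rfl⟩ := Submodule.Quotient.mk_surjective _ z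
      rw [Submodule.Quotient.mk_eq_zero]
      have : G (j z) = 0 := (Submodule.Quotient.mk_eq_zero _).mp hz
      rwa [hGj] at this
    · intro w
      obtain ⟨w, rfl⟩ := Submodule.Quotient.mk_surjective _ w
      refine ⟨Submodule.Quotient.mk (algebraMap K (K ⊗[A] C₀) (G w)), ?_⟩
      refine (Submodule.Quotient.eq _).mpr ?_
      show G (j (algebraMap K (K ⊗[A] C₀) (G w)) - w) = 0
      rw [map_sub, hGj, AlgHom.commutes, Algebra.algebraMap_self, RingHom.id_apply, sub_self]
  refine ⟨d, fun N _ _ p hp => ?_⟩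
  have := hd N p hp
  exact ((((CategoryTheory.Tor (ModuleCat.{u} (K ⊗[A] C₀)) p).mapIso
    (LinearEquiv.ofBijective f hf).toModuleIso).app (ModuleCat.of _ N)).toLinearEquiv.toEquiv.subsingleton)

end Groth.Agent.EtAlg.DiagSmooth
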