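import Mathlib.RingTheory.Unramified.LocalStructure
import Mathlib.RingTheory.Etale.StandardEtale
import Mathlib.RingTheory.Etale.QuasiFinite
import Mathlib.RingTheory.AdjoinRoot
import Mathlib.RingTheory.Flat.FaithfullyFlat.Algebra
import Mathlib.RingTheory.Finiteness.ModuleFinitePresentation
import Mathlib.FieldTheory.IsAlgClosed.AlgebraicClosure
import Mathlib.RingTheory.Localization.Ideal

/-!
Finite free covers dominating etale algebras.
-/

set_option autoImplicit false

open Polynomial

noncomputable section

namespace Groth.Agent.EtAlg.FiniteFlatCover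

universe u

/-- `f` becomes a product of monic linear factors in `A`. -/
def SplitsIn {R : Type u} [CommRing R] (A : Type u) [CommRing A] [Algebra R A] (f : R[X]) : Prop :=
  ∃ s : Multiset A, f.map (algebraMap R A) = (s.map fun a => X - C a).prod

theorem exists_split_single (n : ℕ) : ∀ (R : Type u) [CommRing R] (f : R[X]), f.Monic →
    f.natDegree = n → ∃ (A : Type u) (_ : CommRing A) (_ : Algebra R A), Module.Finite R A ∧
      Module.Free R A ∧ Module.FaithfullyFlat R A ∧ SplitsIn A f := by
  induction n with
  | zero =>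
    intro R _ f hf hn
    refine ⟨R, inferInstance, inferInstance, inferInstance, inferInstance, inferInstance, 0, ?_⟩
    have h1 : f = 1 := by
      rw [eq_C_of_natDegree_eq_zero hn, ← hn, ← leadingCoeff, hf.leadingCoeff, map_one]
    rw [h1]
    simp
  | succ n ih =>
    intro R _ f hf hn
    have hnt : Nontrivial R := by
      rcases subsingleton_or_nontrivial R with h | h
      · exact absurd hn (by rw [Subsingleton.elim f 0, natDegree_zero]; omega)
      · exact h
    let B := AdjoinRoot f
    let : Algebra R B := inferInstanceAs (Algebra R (AdjoinRoot f))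
    have : Module.Free R B := hf.free_adjoinRoot
    have : Module.Finite R B := hf.finite_adjoinRoot
    let b := (AdjoinRoot.powerBasis' hf)
    have : Nontrivial B := nontrivial_of_ne (b.basis ⟨0, by rw [AdjoinRoot.powerBasis'_dim]; omega⟩) 0
      (b.basis.ne_zero _)
    have : Module.FaithfullyFlat R B := inferInstance
    have hroot : (f.map (algebraMap R B)).IsRoot (AdjoinRoot.root f) := AdjoinRoot.isRoot_root f
    have heq := mul_divByMonic_eq_iff_isRoot.mpr hroot
    let g := f.map (algebraMap R B) /ₘ (X - C (AdjoinRoot.root f))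
    have hg : g.Monic := (monic_X_sub_C _).of_mul_monic_left (by rw [heq]; exact hf.map _)
    have hgn : g.natDegree = n := by
      have h1 := congrArg natDegree heq
      rw [(monic_X_sub_C (AdjoinRoot.root f)).natDegree_mul hg, natDegree_X_sub_C,
        hf.natDegree_map, hn] at h1
      omega
    obtain ⟨A, _, _, hfin, hfree, hff, s, hs⟩ := ih B g hg hgn
    let : Algebra R A := ((algebraMap B A).comp (algebraMap R B)).toAlgebra
    have : IsScalarTower R B A := IsScalarTower.of_algebraMap_eq fun _ => rfl
    refine ⟨A, inferInstance, inferInstance, Module.Finite.trans B A, Module.Free.trans (S := B),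
      Module.FaithfullyFlat.trans R B A, algebraMap B A (AdjoinRoot.root f) ::ₘ s, ?_⟩
    rw [IsScalarTower.algebraMap_eq R B A, ← Polynomial.map_map, ← heq, Polynomial.map_mul, hs,
      Multiset.map_cons, Multiset.prod_cons]
    simp

theorem exists_split (R : Type u) [CommRing R] : ∀ (fs : List R[X]), (∀ f ∈ fs, f.Monic) →
    ∃ (A : Type u) (_ : CommRing A) (_ : Algebra R A), Module.Finite R A ∧ Module.Free R A ∧
      Module.FaithfullyFlat R A ∧ ∀ f ∈ fs, SplitsIn A f
  | [], _ => ⟨R, inferInstance, inferInstance, inferInstance, inferInstance, inferInstance,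
      by simp⟩
  | f :: fs, h => by
    obtain ⟨B, _, _, hfin, hfree, hff, hB⟩ := exists_split R fs fun g hg => h g (by simp [hg])
    have hf : f.Monic := h f (by simp)
    obtain ⟨A, _, _, hfin', hfree', hff', hA⟩ :=
      exists_split_single _ B (f.map (algebraMap R B)) (hf.map _) rfl
    let : Algebra R A := ((algebraMap B A).comp (algebraMap R B)).toAlgebra
    have : IsScalarTower R B A := IsScalarTower.of_algebraMap_eq fun _ => rfl
    refine ⟨A, inferInstance, inferInstance, Module.Finite.trans B A, Module.Free.trans (S := B),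
      Module.FaithfullyFlat.trans R B A, fun g hg => ?_⟩
    rcases List.mem_cons.mp hg with rfl | hg
    · obtain ⟨s, hs⟩ := hA
      exact ⟨s, by rwa [Polynomial.map_map, ← IsScalarTower.algebraMap_eq] at hs⟩
    · obtain ⟨s, hs⟩ := hB g hg
      refine ⟨s.map (algebraMap B A), ?_⟩
      rw [IsScalarTower.algebraMap_eq R B A, ← Polynomial.map_map, hs, Polynomial.map_multiset_prod,
        Multiset.map_map, Multiset.map_map]
      simp [Function.comp_def]

theorem exists_map {R : Type u} [CommRing R] (P : StandardEtalePair R) {A : Type u} [CommRing A]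
    [Algebra R A] (hA : SplitsIn A P.f) (q : Ideal P.Ring) [q.IsPrime] (q' : Ideal A) [q'.IsPrime]
    (h : q'.under R = q.under R) :
    ∃ (g' : A) (_ : g' ∉ q') (φ : P.Ring →ₐ[R] Localization.Away g'),
      (q'.map (algebraMap A (Localization.Away g'))).comap φ = q := by
  classical
  obtain ⟨s, hs⟩ := hA
  let Ω := AlgebraicClosure q'.ResidueField
  let p := q.under R
  have : q.LiesOver p := ⟨rfl⟩
  have : q'.LiesOver p := ⟨h.symm⟩
  have : Algebra.QuasiFinite R P.Ring := inferInstance
  let := Localization.AtPrime.algebraOfLiesOver p q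
  let := Localization.AtPrime.algebraOfLiesOver p q'
  have : Module.Finite p.ResidueField q.ResidueField := inferInstance
  let ε : q.ResidueField →ₐ[p.ResidueField] Ω := IsAlgClosed.lift
  let χ : P.Ring →ₐ[R] Ω :=
    (ε.restrictScalars R).comp (IsScalarTower.toAlgHom R P.Ring q.ResidueField)
  have hχ : RingHom.ker χ = q := by
    ext y
    rw [RingHom.mem_ker]
    show ε (algebraMap P.Ring q.ResidueField y) = 0 ↔ _
    rw [map_eq_zero, Ideal.algebraMap_residueField_eq_zero]
  let τ : A →ₐ[R] Ω := IsScalarTower.toAlgHom R A Ω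
  have hτ : RingHom.ker τ = q' := by
    ext y
    rw [RingHom.mem_ker]
    show algebraMap A Ω y = 0 ↔ _
    rw [IsScalarTower.algebraMap_apply A q'.ResidueField Ω, map_eq_zero,
      Ideal.algebraMap_residueField_eq_zero]
  have hX := P.hasMap_X.map χ
  obtain ⟨a, ha, hωa⟩ : ∃ a ∈ s, χ P.X = τ a := by
    have h1 := hX.1
    rw [← aeval_map_algebraMap A, hs, map_multiset_prod, Multiset.map_map,
      Multiset.prod_eq_zero_iff, Multiset.mem_map] at h1
    obtain ⟨a, ha, ha0⟩ := h1
    refine ⟨a, ha, sub_eq_zero.mp ?_⟩
    simpa [τ] using ha0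
  have hfa : aeval a P.f = 0 := by
    rw [← aeval_map_algebraMap A, hs, map_multiset_prod, Multiset.map_map]
    exact Multiset.prod_eq_zero (Multiset.mem_map.mpr ⟨a, ha, by simp⟩)
  let g' := aeval a P.g
  have hg' : g' ∉ q' := by
    rw [← hτ, RingHom.mem_ker, ← aeval_algHom_apply, ← hωa]
    exact hX.2.ne_zero
  let U := Localization.Away g'
  have haU : P.HasMap (algebraMap A U a) := ⟨by
      rw [aeval_algebraMap_apply, hfa, map_zero], by
      rw [aeval_algebraMap_apply]; exact IsLocalization.Away.algebraMap_isUnit g'⟩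
  let φ := P.lift _ haU
  refine ⟨g', hg', φ, ?_⟩
  let ψ : U →ₐ[R] Ω := IsLocalization.liftAlgHom (M := Submonoid.powers g') (f := τ) (fun y => by
    obtain ⟨k, hk⟩ := y.2
    rw [← hk, map_pow]
    refine IsUnit.pow k (Ne.isUnit fun h0 => hg' ?_)
    rw [← hτ]; exact h0)
  have hψ : ∀ y, ψ (algebraMap A U y) = τ y := fun y =>
    IsLocalization.lift_eq (M := Submonoid.powers g') _ y
  have hcomp : ψ.comp φ = χ := P.hom_ext (by
    show ψ (φ P.X) = _
    rw [StandardEtalePair.lift_X, hψ, hωa])
  have hker : RingHom.ker ψ = q'.map (algebraMap A U) := by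
    rw [← IsLocalization.map_under (Submonoid.powers g') U (RingHom.ker ψ)]
    refine congrArg (Ideal.map _) (Eq.trans ?_ hτ)
    ext y
    show ψ (algebraMap A U y) = 0 ↔ τ y = 0
    rw [hψ]
  rw [← hker, ← hχ, ← hcomp]
  ext y
  rfl

theorem exists_cover_standard (R S : Type u) [CommRing R] [CommRing S] [Algebra R S]
    [Algebra.IsStandardEtale R S] :
    ∃ (A : Type u) (_ : CommRing A) (_ : Algebra R A), Module.Finite R A ∧
      Algebra.FinitePresentation R A ∧ Module.Flat R A ∧
      Function.Surjective (PrimeSpectrum.comap (algebraMap R A)) ∧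
      ∀ (q : Ideal S) [q.IsPrime] (q' : Ideal A) [q'.IsPrime], q'.under R = q.under R →
        ∃ (g' : A) (_ : g' ∉ q') (φ : S →ₐ[R] Localization.Away g'),
          (q'.map (algebraMap A (Localization.Away g'))).comap φ = q := by
  obtain ⟨pres⟩ := (inferInstance : Algebra.IsStandardEtale R S).nonempty_standardEtalePresentation
  obtain ⟨A, _, _, _, _, _, hA⟩ := exists_split R [pres.P.f] (by simp [pres.P.monic_f])
  have : Module.FinitePresentation R A := Module.finitePresentation_of_projective R A
  refine ⟨A, inferInstance, inferInstance, inferInstance, inferInstance, inferInstance,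
    PrimeSpectrum.comap_surjective_of_faithfullyFlat, fun q _ q' _ h => ?_⟩
  let e := pres.equivRing
  obtain ⟨g', hg', φ, hφ⟩ := exists_map pres.P (hA _ (by simp)) (q.comap e.symm.toAlgHom) q'
    (h.trans (by ext r; simp [Ideal.under]))
  refine ⟨g', hg', φ.comp e.toAlgHom, ?_⟩
  ext y
  have := SetLike.ext_iff.mp hφ (e y)
  simpa using this

theorem exists_cover_etale (R S : Type u) [CommRing R] [CommRing S] [Algebra R S]
    [Algebra.Etale R S] :
    ∃ (A : Type u) (_ : CommRing A) (_ : Algebra R A), Module.Finite R A ∧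
      Algebra.FinitePresentation R A ∧ Module.FaithfullyFlat R A ∧
      ∀ (q : Ideal S) [q.IsPrime] (q' : Ideal A) [q'.IsPrime], q'.under R = q.under R →
        ∃ (g' : A) (_ : g' ∉ q') (φ : S →ₐ[R] Localization.Away g'),
          (q'.map (algebraMap A (Localization.Away g'))).comap φ = q := by
  classical
  choose f hfq hstd using fun x : PrimeSpectrum S =>
    Algebra.IsEtaleAt.exists_isStandardEtale (R := R) x.asIdeal
  obtain ⟨t, ht⟩ := isCompact_univ.elim_finite_subcover
    (fun x => (PrimeSpectrum.basicOpen (f x) : Set (PrimeSpectrum S)))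
    (fun x => (PrimeSpectrum.basicOpen (f x)).isOpen)
    (fun x _ => Set.mem_iUnion.mpr ⟨x, hfq x⟩)
  have hpres := fun x => (hstd x).nonempty_standardEtalePresentation.some
  obtain ⟨A, _, _, _, _, _, hA⟩ := exists_split R (t.toList.map fun x => (hpres x).P.f) (by
    simp only [List.mem_map]
    rintro _ ⟨x, -, rfl⟩
    exact (hpres x).P.monic_f)
  have : Module.FinitePresentation R A := Module.finitePresentation_of_projective R A
  refine ⟨A, inferInstance, inferInstance, inferInstance, inferInstance, inferInstance,
    fun q _ q' _ h => ?_⟩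
  obtain ⟨x, hx, hxq⟩ : ∃ x ∈ t, f x ∉ q := by
    simpa using ht (Set.mem_univ (⟨q, ‹_›⟩ : PrimeSpectrum S))
  let T := Localization.Away (f x)
  have hdis : Disjoint (Submonoid.powers (f x) : Set S) q := by
    rw [Ideal.disjoint_powers_iff_notMem]
    · exact hxq
    · exact Ideal.IsPrime.isRadical ‹_›
  let Q := q.map (algebraMap S T)
  have : Q.IsPrime := IsLocalization.isPrime_of_isPrime_disjoint _ T q ‹_› hdis
  have hQ : Q.under S = q := IsLocalization.under_map_of_isPrime_disjoint _ T ‹_› hdis
  let e := (hpres x).equivRing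
  obtain ⟨g', hg', φ, hφ⟩ := exists_map (hpres x).P
    (hA _ (List.mem_map.mpr ⟨x, Finset.mem_toList.mpr hx, rfl⟩)) (Q.comap e.symm.toAlgHom) q'
    (h.trans (by
      rw [← hQ, Ideal.under_under]
      ext r
      simp [Ideal.under]; rfl))
  refine ⟨g', hg', φ.comp (e.toAlgHom.comp (IsScalarTower.toAlgHom R S T)), ?_⟩
  ext y
  have := SetLike.ext_iff.mp hφ (e (algebraMap S T y))
  rw [← hQ]
  simpa [Ideal.under] using this

end Groth.Agent.EtAlg.FiniteFlatCover
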