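import Mathlib.RingTheory.DedekindDomain.Dvr
import Mathlib.RingTheory.DiscreteValuationRing.TFAE
import Mathlib.RingTheory.Etale.Basic
import Mathlib.RingTheory.Unramified.LocalRing
import Mathlib.RingTheory.Filtration
import Mathlib.RingTheory.Flat.Localization
import Mathlib.RingTheory.Smooth.Flat
import Mathlib.RingTheory.Ideal.Quotient.Operations
import Mathlib.RingTheory.Ideal.MinimalPrime.Noetherian
import Mathlib.RingTheory.LocalProperties.Reduced

/-!
Étale algebras over Dedekind domains.
-/

set_option autoImplicit false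

noncomputable section

namespace Groth.Agent.EtAlg.OverDedekind

universe u

/-- A Noetherian local ring whose maximal ideal is generated by a regular element or zero is a
domain, and a DVR unless it is a field. -/
theorem isDomain_of_principal {S : Type u} [CommRing S] [IsNoetherianRing S] [IsLocalRing S]
    (π : S) (hπ : IsLocalRing.maximalIdeal S = Ideal.span {π})
    (hreg : π = 0 ∨ ∀ x, π * x = 0 → x = 0) :
    ∃ _ : IsDomain S, ¬ IsField S → IsDiscreteValuationRing S := by
  have hdom : IsDomain S := by
    rcases hreg with rfl | hreg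
    · have : IsLocalRing.maximalIdeal S = ⊥ := by simpa using hπ
      exact (IsLocalRing.isField_iff_maximalIdeal_eq.mpr this).isDomain
    · have hform : ∀ x : S, x ≠ 0 → ∃ (n : ℕ) (w : Sˣ), x = w * π ^ n := by
        intro x hx
        have h1 : x ∉ ⨅ n : ℕ, IsLocalRing.maximalIdeal S ^ n := by
          rw [Ideal.iInf_pow_eq_bot_of_isLocalRing _ (IsLocalRing.maximalIdeal.isMaximal S).ne_top]
          exact hx
        rw [Ideal.mem_iInf] at h1
        push Not at h1
        obtain ⟨n, hn⟩ := h1
        classical
        have hex : ∃ k, x ∉ IsLocalRing.maximalIdeal S ^ k := ⟨n, hn⟩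
        obtain ⟨k, hk⟩ := Nat.exists_eq_succ_of_ne_zero (fun h0 : Nat.find hex = 0 =>
          Nat.find_spec hex (by rw [h0, pow_zero, Ideal.one_eq_top]; exact Submodule.mem_top))
        have h2 : x ∈ IsLocalRing.maximalIdeal S ^ k :=
          not_not.mp (Nat.find_min hex (by omega))
        rw [hπ, Ideal.span_singleton_pow, Ideal.mem_span_singleton'] at h2
        obtain ⟨w, hw⟩ := h2
        have hwu : IsUnit w := by
          by_contra hwu
          refine Nat.find_spec hex ?_
          rw [hk, pow_succ', ← hw]
          exact Ideal.mul_mem_mul hwu (Ideal.pow_mem_pow (hπ ▸ Ideal.mem_span_singleton_self π) k)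
        exact ⟨k, hwu.unit, hw.symm⟩
      have hpow : ∀ (n : ℕ) (x : S), π ^ n * x = 0 → x = 0 := by
        intro n
        induction n with
        | zero => intro x hx; simpa using hx
        | succ n ih => intro x hx; exact hreg x (ih _ (by rw [← hx]; ring))
      have : NoZeroDivisors S := ⟨fun {a b} hab => by
        by_contra hne
        push Not at hne
        obtain ⟨n, w, rfl⟩ := hform a hne.1
        refine hne.2 (hpow n b ?_)
        rw [mul_assoc] at hab
        exact (Units.mul_right_eq_zero w).mp hab⟩
      exact NoZeroDivisors.to_isDomain S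
  exact ⟨hdom, fun hnf => ((IsDiscreteValuationRing.TFAE S hnf).out 0 4 rfl rfl).mpr ⟨π, hπ⟩⟩

theorem localization_facts {A B : Type u} [CommRing A] [IsDedekindDomain A] [CommRing B]
    [Algebra A B] [Algebra.Etale A B] (q : Ideal B) [q.IsPrime] :
    ∃ _ : IsDomain (Localization.AtPrime q), ¬ IsField (Localization.AtPrime q) →
      IsDiscreteValuationRing (Localization.AtPrime q) := by
  let p : Ideal A := q.comap (algebraMap A B)
  have : q.LiesOver p := ⟨rfl⟩
  let := Localization.AtPrime.algebraOfLiesOver p q
  let Ap := Localization.AtPrime p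
  let Bq := Localization.AtPrime q
  have : IsNoetherianRing B := Algebra.FiniteType.isNoetherianRing A B
  have : IsNoetherianRing Bq := IsLocalization.isNoetherianRing q.primeCompl _ inferInstance
  have : Algebra.IsUnramifiedAt A q := inferInstance
  have : Algebra.FormallyUnramified Ap Bq := .of_restrictScalars A _ _
  have : Module.Flat Ap Bq := by
    rw [Module.flat_iff_of_isLocalization Ap p.primeCompl]
    exact Module.Flat.trans A B _
  have : IsLocalHom (algebraMap Ap Bq) := by
    rw [Localization.AtPrime.IsLiesOverAlgebra.algebraMap_eq]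
    infer_instance
  have : Algebra.EssFiniteType Ap Bq := .of_comp A _ _
  have h := Algebra.FormallyUnramified.map_maximalIdeal (R := Ap) (S := Bq)
  have : IsDomain Ap := IsLocalization.isDomain_localization p.primeCompl_le_nonZeroDivisors
  obtain ⟨π, hπ⟩ : ∃ π : Ap, IsLocalRing.maximalIdeal Ap = Ideal.span {π} := by
    by_cases hp : p = ⊥
    · refine ⟨0, ?_⟩
      rw [← Localization.AtPrime.map_eq_maximalIdeal, Ideal.span_singleton_zero, eq_bot_iff,
        Ideal.map_le_iff_le_comap]
      intro x hx
      have : x = 0 := (Submodule.mem_bot A).mp (hp ▸ hx)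
      simp [this]
    · have := IsLocalization.AtPrime.isDiscreteValuationRing_of_dedekind_domain A hp Ap
      exact (IsPrincipalIdealRing.principal (IsLocalRing.maximalIdeal Ap)).1
  refine isDomain_of_principal (algebraMap Ap Bq π) ?_ ?_
  · rw [← h, hπ, Ideal.map_span, Set.image_singleton]
  · by_cases hπ0 : π = 0
    · exact Or.inl (by rw [hπ0, map_zero])
    · refine Or.inr fun x hx => ?_
      have h1 : Function.Injective (LinearMap.lsmul Ap Bq π) := by
        have h2 : Function.Injective (LinearMap.mulLeft Ap π) := fun a b hab =>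
          mul_left_cancel₀ hπ0 hab
        have h3 := Module.Flat.lTensor_preserves_injective_linearMap (M := Bq) _ h2
        intro a b hab
        have h4 : ∀ c : Bq, (LinearMap.mulLeft Ap π).lTensor Bq (c ⊗ₜ[Ap] (1 : Ap)) =
            (π • c) ⊗ₜ[Ap] (1 : Ap) := fun c => by
          rw [LinearMap.lTensor_tmul, LinearMap.mulLeft_apply, ← smul_eq_mul, ← TensorProduct.smul_tmul]
        have h5 : a ⊗ₜ[Ap] (1 : Ap) = b ⊗ₜ[Ap] (1 : Ap) :=
          h3 (by rw [h4, h4]; exact congrArg (· ⊗ₜ[Ap] (1 : Ap)) hab)
        simpa using congrArg (TensorProduct.rid Ap Bq) h5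
      apply h1
      show π • x = π • (0 : Bq)
      rw [smul_zero, Algebra.smul_def, hx]

theorem exists_product (A B : Type u) [CommRing A] [IsDedekindDomain A] [CommRing B] [Algebra A B]
    [Algebra.Etale A B] : ∃ (n : ℕ) (D : Fin n → Type u) (_ : ∀ i, CommRing (D i))
    (_ : ∀ i, IsDedekindDomain (D i)), Nonempty (B ≃+* ∀ i, D i) := by
  classical
  have : IsNoetherianRing B := Algebra.FiniteType.isNoetherianRing A B
  have hfin : (minimalPrimes B).Finite := minimalPrimes.finite_of_isNoetherianRing B
  let e := hfin.toFinset.equivFin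
  let f : Fin hfin.toFinset.card → Ideal B := fun i => (e.symm i : Ideal B)
  have hf : ∀ i, f i ∈ minimalPrimes B := fun i => hfin.mem_toFinset.mp (e.symm i).2
  -- the kernel of a localization is the unique minimal prime below
  have hker : ∀ (q p : Ideal B) [q.IsPrime], p ∈ minimalPrimes B → p ≤ q → ∀ x ∈ p,
      algebraMap B (Localization.AtPrime q) x = 0 := by
    intro q p _ hp hpq x hx
    obtain ⟨_, -⟩ := localization_facts (A := A) q
    have hk : (RingHom.ker (algebraMap B (Localization.AtPrime q))).IsPrime := RingHom.ker_isPrime _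
    have hle : RingHom.ker (algebraMap B (Localization.AtPrime q)) ≤ p := by
      intro z hz
      obtain ⟨⟨s, hs⟩, hsz⟩ := (IsLocalization.map_eq_zero_iff q.primeCompl _ z).mp hz
      exact (hp.1.1.mem_or_mem (show s * z ∈ p by rw [show s * z = 0 from hsz]; exact zero_mem _)).resolve_left
        fun h => hs (hpq h)
    exact RingHom.mem_ker.mp (hp.2 ⟨hk, bot_le⟩ hle hx)
  have hcop : Pairwise fun i j => IsCoprime (f i) (f j) := by
    intro i j hij
    rw [Ideal.isCoprime_iff_sup_eq]
    by_contra hne
    obtain ⟨q, hq, hle⟩ := Ideal.exists_le_maximal _ hne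
    have h1 : ∀ k l, f k ≤ q → f l ≤ q → f k ≤ f l := by
      intro k l hk hl x hx
      obtain ⟨⟨s, hs⟩, hsz⟩ := (IsLocalization.map_eq_zero_iff q.primeCompl _ x).mp
        (hker q (f k) (hf k) hk x hx)
      exact ((hf l).1.1.mem_or_mem (show s * x ∈ f l by rw [show s * x = 0 from hsz]; exact zero_mem _)).resolve_left
        fun h => hs (hl h)
    refine hij (e.symm.injective (Subtype.ext (le_antisymm
      (h1 i j (le_sup_left.trans hle) (le_sup_right.trans hle))
      (h1 j i (le_sup_right.trans hle) (le_sup_left.trans hle)))))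
  have hred : IsReduced B := isReduced_ofLocalizationMaximal B fun q hq => by
    obtain ⟨_, -⟩ := localization_facts (A := A) q
    infer_instance
  have hbot : ⨅ i, f i = ⊥ := by
    have h1 : ⨅ i, f i ≤ nilradical B := by
      rw [nilradical_eq_sInf]
      refine le_sInf fun P hP => ?_
      have : P.IsPrime := hP
      obtain ⟨p, hp, hpP⟩ := Ideal.exists_minimalPrimes_le (bot_le : ⊥ ≤ P)
      refine (iInf_le f (e ⟨p, hfin.mem_toFinset.mpr hp⟩)).trans ?_
      simp only [f, Equiv.symm_apply_apply]
      exact hpP
    rw [nilradical_eq_zero] at h1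
    exact le_bot_iff.mp h1
  have hdom : ∀ i, IsDomain (B ⧸ f i) := fun i =>
    (Ideal.Quotient.isDomain_iff_prime (f i)).mpr (hf i).1.1
  have hded : ∀ i, IsDedekindDomain (B ⧸ f i) := by
    intro i
    have := hdom i
    have : IsDedekindDomainDvr (B ⧸ f i) := by
      refine ⟨fun P hP hPp => ?_⟩
      let q := P.comap (Ideal.Quotient.mk (f i))
      have hq : q.IsPrime := Ideal.comap_isPrime _ _
      have hle : f i ≤ q := fun x hx => by
        show Ideal.Quotient.mk (f i) x ∈ P
        rw [Ideal.Quotient.eq_zero_iff_mem.mpr hx]; exact zero_mem _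
      let Bq := Localization.AtPrime q
      let g : (B ⧸ f i) →+* Bq := Ideal.Quotient.lift (f i) (algebraMap B Bq)
        fun x hx => hker q (f i) (hf i) hle x hx
      let : Algebra (B ⧸ f i) Bq := g.toAlgebra
      have hloc : IsLocalization P.primeCompl Bq := by
        refine ⟨⟨?_, ?_, ?_⟩⟩
        · rintro ⟨y, hy⟩
          obtain ⟨y, rfl⟩ := Ideal.Quotient.mk_surjective y
          exact IsLocalization.map_units Bq (⟨y, hy⟩ : q.primeCompl)
        · intro z
          obtain ⟨⟨b, s, hs⟩, hz⟩ := IsLocalization.surj q.primeCompl z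
          exact ⟨⟨Ideal.Quotient.mk _ b, Ideal.Quotient.mk _ s, hs⟩, hz⟩
        · intro x y hxy
          obtain ⟨x, rfl⟩ := Ideal.Quotient.mk_surjective x
          obtain ⟨y, rfl⟩ := Ideal.Quotient.mk_surjective y
          obtain ⟨⟨s, hs⟩, hsxy⟩ := IsLocalization.exists_of_eq (M := q.primeCompl) (show
            algebraMap B Bq x = algebraMap B Bq y from hxy)
          exact ⟨⟨Ideal.Quotient.mk _ s, hs⟩, by
            show Ideal.Quotient.mk (f i) s * _ = Ideal.Quotient.mk (f i) s * _
            rw [← map_mul, ← map_mul, hsxy]⟩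
      obtain ⟨_, hdvr⟩ := localization_facts (A := A) q
      have hnf : ¬ IsField Bq := by
        intro hfield
        obtain ⟨y, hy, hy0⟩ := Submodule.exists_mem_ne_zero_of_ne_bot hP
        obtain ⟨y, rfl⟩ := Ideal.Quotient.mk_surjective y
        have h1 : algebraMap B Bq y ∈ IsLocalRing.maximalIdeal Bq :=
          (IsLocalization.AtPrime.to_map_mem_maximal_iff Bq q y).mpr hy
        rw [IsLocalRing.isField_iff_maximalIdeal_eq.mp hfield, Ideal.mem_bot] at h1
        obtain ⟨⟨s, hs⟩, hsz⟩ := (IsLocalization.map_eq_zero_iff q.primeCompl _ y).mp h1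
        refine hy0 (Ideal.Quotient.eq_zero_iff_mem.mpr (((hf i).1.1.mem_or_mem
          (show s * y ∈ f i by rw [show s * y = 0 from hsz]; exact zero_mem _)).resolve_left
            fun h => hs (hle h)))
      have := hdvr hnf
      have : IsDomain (Localization.AtPrime P) :=
        IsLocalization.isDomain_localization P.primeCompl_le_nonZeroDivisors
      exact IsDiscreteValuationRing.RingEquivClass.isDiscreteValuationRing
        (IsLocalization.algEquiv P.primeCompl Bq (Localization.AtPrime P)).toRingEquiv
    exact IsDedekindDomainDvr.isDedekindDomain _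
  exact ⟨_, fun i => B ⧸ f i, fun i => inferInstance, hded,
    ⟨((RingEquiv.quotientBot B).symm.trans (Ideal.quotEquivOfEq hbot.symm)).trans
      (Ideal.quotientInfRingEquivPiQuotient f hcop)⟩⟩

end Groth.Agent.EtAlg.OverDedekind
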