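import Mathlib.RingTheory.Unramified.LocalStructure
import Mathlib.RingTheory.Etale.StandardEtale
import Mathlib.RingTheory.LocalRing.ResidueField.Basic

/-!
Etale local algebras with trivial residue extension agree with the base modulo powers of an
element.
-/

set_option autoImplicit false

open Polynomial

namespace Groth.Agent.EtAlg.TrivialResidue

universe u

theorem exists_quotient_pow_bijective (R : Type u) [CommRing R] [IsLocalRing R] (T : Type u)
    [CommRing T] [Algebra R T] [Algebra.Etale R T] (q : Ideal T) [q.IsPrime] (S : Type u)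
    [CommRing S] [IsLocalRing S] [Algebra T S] [IsLocalization.AtPrime S q] [Algebra R S]
    [IsScalarTower R T S] [IsLocalHom (algebraMap R S)]
    (hres : Function.Surjective (IsLocalRing.ResidueField.map (algebraMap R S))) :
    ∃ t ∈ IsLocalRing.maximalIdeal R, ∀ n : ℕ, 1 ≤ n →
      Function.Bijective (Ideal.quotientMap ((Ideal.span {t ^ n}).map (algebraMap R S))
        (algebraMap R S) Ideal.le_comap_map) := by
  classical
  obtain ⟨f, hfq, hstd⟩ := Algebra.IsEtaleAt.exists_isStandardEtale (R := R) q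
  obtain ⟨⟨P, x, hx, hbij⟩⟩ := hstd.nonempty_standardEtalePresentation
  let T' := Localization.Away f
  let ι₀ : T →ₐ[R] T' := IsScalarTower.toAlgHom R T T'
  let e : P.Ring ≃ₐ[R] T' := AlgEquiv.ofBijective (P.lift x hx) hbij
  have heX : e P.X = x := P.lift_X x hx
  have hfu : IsUnit (IsScalarTower.toAlgHom R T S f) :=
    IsLocalization.map_units S (⟨f, hfq⟩ : q.primeCompl)
  let ι : T' →ₐ[R] S := IsLocalization.liftAlgHom (M := Submonoid.powers f)
    (f := IsScalarTower.toAlgHom R T S) (fun y => by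
      obtain ⟨k, hk⟩ := y.2
      rw [← hk, map_pow]
      exact hfu.pow k)
  have hι : ∀ y : T, ι (ι₀ y) = algebraMap T S y := fun y =>
    IsLocalization.lift_eq (M := Submonoid.powers f) _ y
  let x₀ := ι x
  have hx₀ := hx.map ι
  -- two algebra maps out of `T'` agreeing on `x` are equal
  have hext : ∀ {C : Type u} [CommRing C] [Algebra R C] (g₁ g₂ : T' →ₐ[R] C), g₁ x = g₂ x →
      g₁ = g₂ := fun g₁ g₂ h => by
    have h1 : g₁.comp e.toAlgHom = g₂.comp e.toAlgHom := P.hom_ext (by simpa [heX] using h)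
    refine AlgHom.ext fun y => ?_
    obtain ⟨z, rfl⟩ := e.surjective y
    exact DFunLike.congr_fun h1 z
  obtain ⟨ā, hā⟩ := hres (IsLocalRing.residue S x₀)
  obtain ⟨a, rfl⟩ := IsLocalRing.residue_surjective ā
  rw [IsLocalRing.ResidueField.map_residue] at hā
  have hd : x₀ - algebraMap R S a ∈ IsLocalRing.maximalIdeal S := by
    rw [← IsLocalRing.residue_eq_zero_iff, map_sub, hā, sub_self]
  let t := P.f.eval a
  have hres' : ∀ p : R[X], IsLocalRing.residue S (algebraMap R S (p.eval a)) =
      IsLocalRing.residue S (aeval x₀ p) := fun p => by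
    rw [← aeval_algebraMap_apply_eq_algebraMap_eval, ← sub_eq_zero, ← map_sub,
      IsLocalRing.residue_eq_zero_iff]
    obtain ⟨c, hc⟩ := (sub_dvd_eval_sub (algebraMap R S a) x₀ (p.map (algebraMap R S)))
    rw [eval_map, eval_map, ← aeval_def, ← aeval_def] at hc
    rw [hc]
    exact Ideal.mul_mem_right _ _ (by rw [← neg_sub]; exact neg_mem hd)
  have ht : t ∈ IsLocalRing.maximalIdeal R := by
    rw [IsLocalRing.mem_maximalIdeal, mem_nonunits_iff]
    intro hu
    have := (hu.map (algebraMap R S)).map (IsLocalRing.residue S)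
    rw [hres', hx₀.1, map_zero] at this
    exact not_isUnit_zero this
  have hg : IsUnit (P.g.eval a) := by
    refine isUnit_of_map_unit (algebraMap R S) _ ?_
    refine isUnit_of_map_unit (IsLocalRing.residue S) _ ?_
    rw [hres']
    exact hx₀.2.map _
  have hder : IsUnit (aeval x₀ P.f.derivative) := hx₀.isUnit_derivative_f
  refine ⟨t, ht, fun n hn => ?_⟩
  let J₀ : Ideal R := Ideal.span {t ^ n}
  let B := R ⧸ J₀
  let I : Ideal B := Ideal.span {Ideal.Quotient.mk J₀ t}
  let C := B ⧸ I
  have hI : IsNilpotent I := ⟨n, by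
    rw [Ideal.span_singleton_pow, ← map_pow, Ideal.Quotient.eq_zero_iff_mem.mpr
      (Ideal.mem_span_singleton_self _), Ideal.span_singleton_zero]
    rfl⟩
  have hCt : algebraMap R C t = 0 := Ideal.Quotient.eq_zero_iff_mem.mpr
    (Ideal.mem_span_singleton_self _)
  have haC : P.HasMap (algebraMap R C a) := ⟨by
      rw [aeval_algebraMap_apply_eq_algebraMap_eval]; exact hCt, by
      rw [aeval_algebraMap_apply_eq_algebraMap_eval]; exact hg.map _⟩
  let φ₀' : T' →ₐ[R] C := (P.lift _ haC).comp e.symm.toAlgHom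
  have hφ₀x : φ₀' x = algebraMap R C a := by
    show P.lift _ haC (e.symm x) = _
    rw [← heX, e.symm_apply_apply, StandardEtalePair.lift_X]
  let φ₀ : T →ₐ[R] C := φ₀'.comp ι₀
  let φ : T →ₐ[R] B := Algebra.FormallySmooth.lift I hI φ₀
  have hφ : ∀ y, Ideal.Quotient.mk I (φ y) = φ₀ y := fun y =>
    Algebra.FormallySmooth.mk_lift I hI φ₀ y
  -- compatibility on the residue field
  let κ := IsLocalRing.ResidueField S
  have hJm : ∀ j ∈ J₀, algebraMap R κ j = 0 := by
    intro j hj
    obtain ⟨c, rfl⟩ := Ideal.mem_span_singleton'.mp hj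
    show IsLocalRing.residue S (algebraMap R S (c * t ^ n)) = 0
    rw [IsLocalRing.residue_eq_zero_iff, map_mul]
    exact Ideal.mul_mem_left _ _ (((IsLocalRing.maximalIdeal R).pow_mem_of_mem ht n hn) |>
      fun h => map_nonunit (algebraMap R S) _ h)
  let ψB : B →ₐ[R] κ := Ideal.Quotient.liftₐ J₀ (Algebra.ofId R κ) hJm
  have hψI : ∀ z ∈ I, ψB z = 0 := by
    intro z hz
    obtain ⟨c, rfl⟩ := Ideal.mem_span_singleton'.mp hz
    rw [map_mul]
    have : ψB (Ideal.Quotient.mk J₀ t) = 0 := by
      show IsLocalRing.residue S (algebraMap R S t) = 0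
      rw [IsLocalRing.residue_eq_zero_iff]
      exact map_nonunit (algebraMap R S) _ ht
    rw [this, mul_zero]
  let ψ : C →ₐ[R] κ := Ideal.Quotient.liftₐ I ψB hψI
  let resS : S →ₐ[R] κ := IsScalarTower.toAlgHom R S κ
  have hψφ : ∀ y, ψ (φ₀ y) = IsLocalRing.residue S (algebraMap T S y) := by
    have h1 : ψ.comp φ₀' = resS.comp ι := hext _ _ (by
      show ψ (φ₀' x) = resS (ι x)
      rw [hφ₀x, AlgHom.commutes]
      exact hā)
    intro y
    rw [← hι]
    exact DFunLike.congr_fun h1 (ι₀ y)
  -- the section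
  have hunit : ∀ s : q.primeCompl, IsUnit (φ s) := by
    intro s
    obtain ⟨r, hr⟩ := Ideal.Quotient.mk_surjective (φ (s : T))
    have hru : IsUnit r := by
      refine isUnit_of_map_unit (algebraMap R S) _ ?_
      refine isUnit_of_map_unit (IsLocalRing.residue S) _ ?_
      have h2 : IsLocalRing.residue S (algebraMap R S r) =
          IsLocalRing.residue S (algebraMap T S s) := by
        rw [← hψφ, ← hφ, ← hr]
        rfl
      rw [h2]
      exact (IsLocalization.map_units S s).map _
    rw [← hr]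
    exact hru.map _
  let σ : S →ₐ[R] B := IsLocalization.liftAlgHom (M := q.primeCompl) (f := φ) hunit
  let J : Ideal S := J₀.map (algebraMap R S)
  let π : B →ₐ[R] S ⧸ J :=
    Ideal.Quotient.liftₐ J₀ (Algebra.ofId R (S ⧸ J)) fun j hj =>
      Ideal.Quotient.eq_zero_iff_mem.mpr (Ideal.mem_map_of_mem _ hj)
  have hπ : ∀ b, Ideal.quotientMap J (algebraMap R S) Ideal.le_comap_map b = π b := by
    intro b
    obtain ⟨r, rfl⟩ := Ideal.Quotient.mk_surjective b
    rfl
  have hσJ : ∀ z ∈ J, σ z = 0 := by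
    intro z hz
    have : J ≤ RingHom.ker σ := Ideal.map_le_iff_le_comap.mpr fun j hj => by
      show σ (algebraMap R S j) = 0
      rw [σ.commutes]
      exact Ideal.Quotient.eq_zero_iff_mem.mpr hj
    exact this hz
  have hret : ∀ z : S, π (σ z) = Ideal.Quotient.mk J z := by
    -- compare the two maps on `T`
    let I' : Ideal (S ⧸ J) := Ideal.span {algebraMap R (S ⧸ J) t}
    have hI' : IsNilpotent I' := ⟨n, by
      rw [Ideal.span_singleton_pow, ← map_pow]
      rw [show algebraMap R (S ⧸ J) (t ^ n) = 0 from Ideal.Quotient.eq_zero_iff_mem.mpr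
        (Ideal.mem_map_of_mem _ (Ideal.mem_span_singleton_self _)), Ideal.span_singleton_zero]
      rfl⟩
    let D := (S ⧸ J) ⧸ I'
    have hπI : ∀ z ∈ I, Ideal.Quotient.mkₐ R I' (π z) = 0 := by
      intro z hz
      obtain ⟨c, rfl⟩ := Ideal.mem_span_singleton'.mp hz
      rw [map_mul, map_mul]
      have : π (Ideal.Quotient.mk J₀ t) = algebraMap R (S ⧸ J) t := rfl
      rw [this, show Ideal.Quotient.mkₐ R I' (algebraMap R (S ⧸ J) t) = 0 from
        Ideal.Quotient.eq_zero_iff_mem.mpr (Ideal.mem_span_singleton_self _), mul_zero]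
    let πC : C →ₐ[R] D := Ideal.Quotient.liftₐ I ((Ideal.Quotient.mkₐ R I').comp π) hπI
    let toD : S →ₐ[R] D := (Ideal.Quotient.mkₐ R I').comp (Ideal.Quotient.mkₐ R J)
    have hroot : toD x₀ = algebraMap R D a := by
      obtain ⟨k, hk⟩ := binomExpansion (P.f.map (algebraMap R S)) (algebraMap R S a)
        (x₀ - algebraMap R S a)
      rw [add_sub_cancel, derivative_map, eval_map, eval_map, eval_map, ← aeval_def, ← aeval_def,
        ← aeval_def, hx₀.1, aeval_algebraMap_apply_eq_algebraMap_eval,
        aeval_algebraMap_apply_eq_algebraMap_eval] at hk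
      have hu : IsUnit (algebraMap R S (P.f.derivative.eval a) + k * (x₀ - algebraMap R S a)) := by
        refine isUnit_of_map_unit (IsLocalRing.residue S) _ ?_
        rw [map_add, map_mul, (IsLocalRing.residue_eq_zero_iff _).mpr hd, mul_zero, add_zero, hres']
        exact hder.map _
      have h0 := congrArg toD hk
      rw [map_zero, map_add, map_add, AlgHom.commutes toD t] at h0
      have ht0 : algebraMap R D t = 0 :=
        Ideal.Quotient.eq_zero_iff_mem.mpr (Ideal.mem_span_singleton_self _)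
      rw [ht0, zero_add, sq, ← mul_assoc, ← map_add, ← add_mul, map_mul] at h0
      rw [← sub_eq_zero, ← AlgHom.commutes toD, ← map_sub]
      exact (hu.map toD).mul_right_eq_zero.mp h0.symm
    have h1 : πC.comp φ₀' = toD.comp ι := hext _ _ (by
      show πC (φ₀' x) = toD (ι x)
      rw [hφ₀x, AlgHom.commutes]
      exact hroot.symm)
    have h2 : π.comp φ = (Ideal.Quotient.mkₐ R J).comp (IsScalarTower.toAlgHom R T S) := by
      refine Algebra.FormallyUnramified.lift_unique I' hI' _ _ (AlgHom.ext fun y => ?_)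
      have h3 := DFunLike.congr_fun h1 (ι₀ y)
      show Ideal.Quotient.mk I' (π (φ y)) = toD (algebraMap T S y)
      rw [← hι]
      refine Eq.trans ?_ h3
      show _ = πC (φ₀ y)
      rw [← hφ]
      rfl
    have h4 : (π.comp σ).toRingHom = (Ideal.Quotient.mk J) :=
      IsLocalization.ringHom_ext q.primeCompl (RingHom.ext fun y => by
        show π (σ (algebraMap T S y)) = _
        rw [show σ (algebraMap T S y) = φ y from IsLocalization.lift_eq _ y]
        exact DFunLike.congr_fun h2 y)
    exact fun z => RingHom.congr_fun h4 z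
  refine ⟨fun b₁ b₂ hb => ?_, fun z => ?_⟩
  · let σ' : S ⧸ J →ₐ[R] B := Ideal.Quotient.liftₐ J σ hσJ
    have hσπ : ∀ b, σ' (π b) = b := by
      intro b
      obtain ⟨r, rfl⟩ := Ideal.Quotient.mk_surjective b
      show σ (algebraMap R S r) = _
      rw [σ.commutes]
      rfl
    rw [hπ, hπ] at hb
    rw [← hσπ b₁, hb, hσπ]
  · obtain ⟨z, rfl⟩ := Ideal.Quotient.mk_surjective z
    exact ⟨σ z, by rw [hπ, hret]⟩

end Groth.Agent.EtAlg.TrivialResidue
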