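import Mathlib.RingTheory.Spectrum.Prime.Topology
import Mathlib.RingTheory.Etale.Basic
import Mathlib.RingTheory.RingHom.Etale
import Mathlib.RingTheory.ZariskisMainTheorem

/-!
Zariski neighbourhoods of a closed subset of a spectrum.
-/

set_option autoImplicit false

namespace Groth.Agent.EtAlg.ZeroLocusNhd

universe u

theorem exists_away {R : Type u} [CommRing R] (J : Ideal R) (U : Set (PrimeSpectrum R))
    (hU : IsOpen U) (hJ : ∀ x : PrimeSpectrum R, J ≤ x.asIdeal → x ∈ U) :
    ∃ g : R, (PrimeSpectrum.basicOpen g : Set (PrimeSpectrum R)) ⊆ U ∧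
      Function.Bijective (Ideal.quotientMap (J.map (algebraMap R (Localization.Away g)))
        (algebraMap R (Localization.Away g)) Ideal.le_comap_map) := by
  obtain ⟨K, hK⟩ := (PrimeSpectrum.isClosed_iff_zeroLocus_ideal Uᶜ).mp hU.isClosed_compl
  have htop : K ⊔ J = ⊤ := by
    by_contra hne
    obtain ⟨m, hm, hle⟩ := Ideal.exists_le_maximal _ hne
    exact (show (⟨m, hm.isPrime⟩ : PrimeSpectrum R) ∈ Uᶜ from
      hK ▸ (PrimeSpectrum.mem_zeroLocus _ _).mpr (SetLike.coe_subset_coe.mpr ((le_sup_left : K ≤ K ⊔ J).trans hle)))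
        (hJ _ (le_sup_right.trans hle))
  obtain ⟨g, hg, j, hj, hgj⟩ := Submodule.mem_sup.mp
    (show (1 : R) ∈ K ⊔ J by rw [htop]; exact Submodule.mem_top)
  refine ⟨g, fun x hx => ?_, ?_⟩
  · by_contra hxU
    exact hx ((PrimeSpectrum.mem_zeroLocus _ _).mp (hK ▸ hxU) hg)
  let L := Localization.Away g
  refine ⟨?_, ?_⟩
  · rw [injective_iff_map_eq_zero]
    intro x hx
    obtain ⟨x, rfl⟩ := Ideal.Quotient.mk_surjective x
    rw [Ideal.quotientMap_mk, Ideal.Quotient.eq_zero_iff_mem,
      IsLocalization.algebraMap_mem_map_algebraMap_iff (Submonoid.powers g) L] at hx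
    obtain ⟨_, ⟨n, rfl⟩, hn⟩ := hx
    have h1 : Ideal.Quotient.mk J g = 1 := by
      rw [← map_one (Ideal.Quotient.mk J), eq_comm, Ideal.Quotient.eq, ← hgj,
        add_sub_cancel_left]
      exact hj
    have h2 := Ideal.Quotient.eq_zero_iff_mem.mpr hn
    rwa [map_mul, map_pow, h1, one_pow, one_mul] at h2
  · intro y
    obtain ⟨y, rfl⟩ := Ideal.Quotient.mk_surjective y
    obtain ⟨⟨a, ⟨_, n, rfl⟩⟩, ha⟩ := IsLocalization.surj (Submonoid.powers g) y
    refine ⟨Ideal.Quotient.mk J a, ?_⟩
    rw [Ideal.quotientMap_mk, ← ha, map_mul]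
    have h1 : Ideal.Quotient.mk (J.map (algebraMap R L)) (algebraMap R L g) = 1 := by
      rw [← map_one (Ideal.Quotient.mk _), eq_comm, Ideal.Quotient.eq, ← map_one (algebraMap R L),
        ← map_sub, ← hgj, add_sub_cancel_left]
      exact Ideal.mem_map_of_mem _ hj
    rw [map_pow, map_pow, h1, one_pow, mul_one]

theorem etale_away {R : Type u} [CommRing R] (g : R) : Algebra.Etale R (Localization.Away g) :=
  Algebra.Etale.of_isLocalizationAway g

theorem isOpen_quasiFiniteAt (A R : Type u) [CommRing A] [CommRing R] [Algebra A R]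
    [Algebra.FiniteType A R] :
    IsOpen {x : PrimeSpectrum R | Algebra.QuasiFiniteAt A x.asIdeal} := by
  rw [isOpen_iff_forall_mem_open]
  intro x hx
  have : Algebra.QuasiFiniteAt A x.asIdeal := hx
  obtain ⟨S', hS', r, hr, hbij⟩ :=
    Algebra.QuasiFiniteAt.exists_fg_and_exists_notMem_and_awayMap_bijective (R := A) x.asIdeal
  have : Module.Finite A S' := ⟨(Submodule.fg_top _).mpr hS'⟩
  have : Algebra.QuasiFinite A (Localization.Away r) := .trans _ S' _
  have : Algebra.QuasiFinite A (Localization.Away r.1) :=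
    .of_surjective_algHom (Localization.awayMapₐ S'.val r) hbij.2
  refine ⟨PrimeSpectrum.basicOpen r.1, fun y hy => ?_, (PrimeSpectrum.basicOpen r.1).isOpen, hr⟩
  let f : Localization.Away r.1 →ₐ[R] Localization.AtPrime y.asIdeal :=
    IsLocalization.Away.liftAlgHom r.1 (f := Algebra.ofId _ _)
      (IsLocalization.map_units (M := y.asIdeal.primeCompl) _ ⟨r.1, hy⟩)
  refine Algebra.QuasiFinite.of_forall_exists_mul_mem_range (f.restrictScalars A) fun z => ?_
  obtain ⟨z, ⟨s, hs⟩, rfl⟩ := IsLocalization.exists_mk'_eq y.asIdeal.primeCompl z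
  exact ⟨algebraMap _ _ s, by simpa using IsLocalization.map_units _ ⟨s, hs⟩,
    algebraMap _ _ z, by simp⟩

theorem quasiFinite_away (A R : Type u) [CommRing A] [CommRing R] [Algebra A R]
    [Algebra.FiniteType A R] (g : R)
    (hg : ∀ x ∈ PrimeSpectrum.basicOpen g, Algebra.QuasiFiniteAt A x.asIdeal) :
    Algebra.QuasiFinite A (Localization.Away g) := by
  classical
  have : Algebra.FiniteType R (Localization.Away g) :=
    IsLocalization.finiteType_of_monoid_fg (Submonoid.powers g) _
  have : Algebra.FiniteType A (Localization.Away g) := Algebra.FiniteType.trans (S := R) inferInstance inferInstance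
  rw [Algebra.QuasiFinite.iff_finite_comap_preimage_singleton]
  intro p
  let Y := {x : PrimeSpectrum R | x ∈ PrimeSpectrum.basicOpen g ∧
    PrimeSpectrum.comap (algebraMap A R) x = p}
  suffices hY : Y.Finite by
    refine Set.Finite.of_finite_image (f := PrimeSpectrum.comap (algebraMap R (Localization.Away g)))
      (hY.subset ?_) (PrimeSpectrum.localization_comap_injective _ (Submonoid.powers g)).injOn
    rintro _ ⟨z, hz, rfl⟩
    refine ⟨?_, ?_⟩
    · rw [← SetLike.mem_coe, ← PrimeSpectrum.localization_away_comap_range (Localization.Away g) g]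
      exact ⟨z, rfl⟩
    · rw [← PrimeSpectrum.comap_comp_apply, ← IsScalarTower.algebraMap_eq]
      exact hz
  -- the fibre is discrete and contained in a quasi-compact set
  let F := PrimeSpectrum.comap (algebraMap A R) ⁻¹' {p}
  let e := PrimeSpectrum.preimageHomeomorphFiber A R p
  have hcpt : IsCompact ((↑) ⁻¹' (PrimeSpectrum.basicOpen g : Set (PrimeSpectrum R)) : Set F) := by
    rw [← e.isCompact_image]
    have : IsNoetherianRing (p.asIdeal.Fiber R) :=
      Algebra.FiniteType.isNoetherianRing p.asIdeal.ResidueField _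
    exact TopologicalSpace.NoetherianSpace.isCompact _
  have hdisc : IsDiscrete ((↑) ⁻¹' (PrimeSpectrum.basicOpen g : Set (PrimeSpectrum R)) : Set F) := by
    refine isDiscrete_iff_discreteTopology.mpr (discreteTopology_iff_isOpen_singleton.mpr fun y => ?_)
    obtain ⟨⟨y, hyp⟩, hy⟩ := y
    obtain rfl : PrimeSpectrum.comap (algebraMap A R) y = p := hyp
    have := (Algebra.quasiFiniteAt_iff_isOpen_singleton_fiber y).mp (hg y hy)
    convert this.preimage continuous_subtype_val using 1
    ext z
    simp [Subtype.ext_iff]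
  refine ((hcpt.finite hdisc).image (↑)).subset ?_
  intro x hx
  exact ⟨⟨x, hx.2⟩, hx.1, rfl⟩

end Groth.Agent.EtAlg.ZeroLocusNhd
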